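import Mathlib.CategoryTheory.Functor.Flat
import Mathlib.CategoryTheory.Sites.Pullback
import Mathlib.CategoryTheory.Limits.FilteredColimitCommutesFiniteLimit
import Mathlib.CategoryTheory.Limits.Preserves.Filtered

/-!
# Left Kan extension along a flat functor preserves finite limits (general universes)
-/

universe w v₁ v₂ v₃ u₁ u₂ u₃

namespace Groth.Agent.Lib.Helper1.LanFlat

open CategoryTheory CategoryTheory.Limits Opposite

variable {C : Type u₁} [Category.{v₁} C] {D : Type u₂} [Category.{v₂} D]
  (E : Type u₃) [Category.{v₃} E]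

set_option backward.defeqAttrib.useBackward true in
set_option backward.isDefEq.respectTransparency false in
/-- The evaluation of `F.lan` at `X` is the colimit over the costructured arrows over `X`
(general universes). -/
noncomputable def lanEvaluationIsoColim (F : C ⥤ D) (X : D)
    [∀ X : D, HasColimitsOfShape (CostructuredArrow F X) E] :
    F.lan ⋙ (evaluation D E).obj X ≅
      (Functor.whiskeringLeft _ _ E).obj (CostructuredArrow.proj F X) ⋙ colim :=
  NatIso.ofComponents (fun G =>
    IsColimit.coconePointUniqueUpToIso
    (Functor.isPointwiseLeftKanExtensionLeftKanExtensionUnit F G X)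
    (colimit.isColimit _)) (fun {G₁ G₂} φ => by
      apply (Functor.isPointwiseLeftKanExtensionLeftKanExtensionUnit F G₁ X).hom_ext
      intro T
      have h₁ := fun (G : C ⥤ E) => IsColimit.comp_coconePointUniqueUpToIso_hom
        (Functor.isPointwiseLeftKanExtensionLeftKanExtensionUnit F G X) (colimit.isColimit _) T
      have h₂ := congr_app (F.lanUnit.naturality φ) T.left
      dsimp at h₁ h₂ ⊢
      simp only [Category.assoc] at h₁ ⊢
      simp only [Functor.lan, Functor.lanUnit] at h₂ ⊢
      rw [reassoc_of% h₁, NatTrans.naturality_assoc, ← reassoc_of% h₂, h₁,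
        ι_colimMap, Functor.whiskerLeft_app]
      rfl)


variable {E}
variable {FE : E → E → Type*} {CE : E → Type v₃} [∀ X Y, FunLike (FE X Y) (CE X) (CE Y)]
    [ConcreteCategory.{v₃} E FE]

attribute [local instance] reflectsLimitsOfShape_of_reflectsIsomorphisms in
/-- If `F : C ⥤ D` is representably flat, then `Lan F.op` preserves finite limits
(general universes; the relevant categories of costructured arrows must be `w`-small, and
`forget E` must preserve the corresponding filtered colimits). -/
theorem lan_preservesFiniteLimits_of_flat (F : C ⥤ D) [RepresentablyFlat F]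
    [∀ X : Dᵒᵖ, HasColimitsOfShape (CostructuredArrow F.op X) E]
    [HasFiniteLimits E]
    [∀ X : Dᵒᵖ, PreservesColimitsOfShape (CostructuredArrow F.op X) (forget E)]
    [PreservesFiniteLimits (forget E)] [(forget E).ReflectsIsomorphisms]
    [∀ X : Dᵒᵖ, Small.{v₃} (CostructuredArrow F.op X)] :
    PreservesFiniteLimits (F.op.lan : (Cᵒᵖ ⥤ E) ⥤ (Dᵒᵖ ⥤ E)) := by
  apply preservesFiniteLimits_of_preservesFiniteLimitsOfSize.{0}
  intro J _ _
  apply preservesLimitsOfShape_of_evaluation (F.op.lan : (Cᵒᵖ ⥤ E) ⥤ Dᵒᵖ ⥤ E) J
  intro K
  have : IsFiltered (CostructuredArrow F.op K) :=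
    IsFiltered.of_equivalence (structuredArrowOpEquivalence F (unop K))
  have : PreservesLimitsOfShape J (colim : (CostructuredArrow F.op K ⥤ E) ⥤ E) :=
    filtered_colim_preservesFiniteLimits
  exact preservesLimitsOfShape_of_natIso (lanEvaluationIsoColim E F.op K).symm

end Groth.Agent.Lib.Helper1.LanFlat
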