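import Mathlib.RingTheory.Flat.FaithfullyFlat.Algebra
import Mathlib.RingTheory.RingHom.FaithfullyFlat
import Mathlib.RingTheory.RingHom.Integral
import Mathlib.RingTheory.RingHomProperties
import Mathlib.LinearAlgebra.TensorProduct.RightExactness
import Mathlib.RingTheory.IntegralClosure.Algebra.Basic

/-!
# Integrality descends along faithfully flat base change
-/

set_option autoImplicit false

open TensorProduct Polynomial

namespace Groth.Agent.Lib.Helper1

variable {R S T : Type*} [CommRing R] [CommRing S] [CommRing T] [Algebra R S] [Algebra R T]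

/-- If `T` is faithfully flat over `R` and `1 ⊗ s` is integral over `T` in `T ⊗[R] S`, then
`s` is integral over `R`. -/
lemma isIntegral_of_isIntegral_one_tmul [Module.FaithfullyFlat R T] (s : S)
    (h : IsIntegral T ((1 : T) ⊗ₜ[R] s)) : IsIntegral R s := by
  obtain ⟨p, hpm, hp⟩ := h
  set n := p.natDegree with hn
  let N : Submodule R S := Submodule.span R (Set.range fun i : Fin n => s ^ (i : ℕ))
  have hmem : ∀ i : Fin n, s ^ (i : ℕ) ∈ N := fun i => Submodule.subset_span ⟨i, rfl⟩
  have key : s ^ n ∈ N := by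
    have hinj := Module.FaithfullyFlat.tensorProduct_mk_injective (A := R) (B := T) (S ⧸ N)
    rw [← Submodule.Quotient.mk_eq_zero]
    apply hinj
    rw [map_zero]
    change (1 : T) ⊗ₜ[R] (N.mkQ (s ^ n)) = 0
    rw [← LinearMap.lTensor_tmul, ← LinearMap.mem_ker, lTensor_mkQ]
    refine ⟨-∑ i : Fin n, p.coeff i ⊗ₜ[R] (⟨s ^ (i : ℕ), hmem i⟩ : N), ?_⟩
    rw [map_neg, map_sum, neg_eq_iff_eq_neg, ← add_eq_zero_iff_eq_neg, add_comm]
    simp only [LinearMap.lTensor_tmul, Submodule.subtype_apply]
    have h2 : eval₂ (algebraMap T (T ⊗[R] S)) ((1 : T) ⊗ₜ[R] s) p = 0 := hp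
    conv at h2 => arg 1; arg 3; rw [hpm.as_sum]
    rw [eval₂_add, eval₂_pow, eval₂_X, eval₂_finsetSum, Finset.sum_range] at h2
    simpa [eval₂_mul, eval₂_C, eval₂_pow, eval₂_X, Algebra.TensorProduct.algebraMap_apply,
      Algebra.TensorProduct.tmul_pow, Algebra.TensorProduct.tmul_mul_tmul, ← hn] using h2
  obtain ⟨c, hc⟩ := (Submodule.mem_span_range_iff_exists_fun R).mp key
  refine ⟨X ^ n - ∑ i : Fin n, C (c i) * X ^ (i : ℕ), ?_, ?_⟩
  · apply monic_X_pow_sub
    exact degree_sum_fin_lt c
  · simp [eval₂_sub, eval₂_finsetSum, ← hc, Algebra.smul_def]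

/-- Integral ring homomorphisms codescend along faithfully flat ring homomorphisms. -/
lemma isIntegral_codescendsAlong_faithfullyFlat :
    RingHom.CodescendsAlong (fun f => f.IsIntegral) RingHom.FaithfullyFlat := by
  refine .mk _ RingHom.isIntegral_respectsIso fun R S T _ _ _ _ _ h h' ↦ ?_
  rw [RingHom.faithfullyFlat_algebraMap_iff] at h
  intro t
  apply isIntegral_of_isIntegral_one_tmul (R := R) (S := T) (T := S)
  exact h' (1 ⊗ₜ t)

end Groth.Agent.Lib.Helper1
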