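/-
Algebra behind `Γ(P^n_R, O) = R`: a compatible family of elements of the degree-zero localizations
`R[T_0..T_n]_(T_i)` comes from a single constant.
-/
import Mathlib
import Groth.Prelude.Def_CohB1

set_option autoImplicit false
universe u

namespace Groth.Agent.Lib.Helper1.ProjSpaceAlg

open MvPolynomial HomogeneousLocalization

section General

variable {A : Type*} [CommRing A] {σ : Type*} [SetLike σ A] [AddSubgroupClass σ A]
  (𝒜 : ℕ → σ) [GradedRing 𝒜]

/-- `A_(f) → A_(fg)` is injective when `g` is a nonzerodivisor. -/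
lemma awayMap_injective {d e : ℕ} {f g x : A} (hf : f ∈ 𝒜 d) (hg : g ∈ 𝒜 e) (hx : x = f * g)
    (hreg : IsRegular g) : Function.Injective (awayMap 𝒜 hg hx) := by
  intro s t hst
  obtain ⟨n, a, ha, rfl⟩ := Away.mk_surjective 𝒜 hf s
  obtain ⟨n', a', ha', rfl⟩ := Away.mk_surjective 𝒜 hf t
  rw [awayMap_mk, awayMap_mk] at hst
  have h1 := congrArg HomogeneousLocalization.val hst
  rw [Away.val_mk, Away.val_mk, Localization.mk_eq_mk_iff, Localization.r_iff_exists] at h1
  obtain ⟨⟨c, t, rfl⟩, hc⟩ := h1
  simp only at hc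
  apply HomogeneousLocalization.val_injective
  rw [Away.val_mk, Away.val_mk, Localization.mk_eq_mk_iff, Localization.r_iff_exists]
  refine ⟨⟨f ^ t, t, rfl⟩, ?_⟩
  simp only
  subst hx
  have hreg' : IsRegular (g ^ (t + n + n')) := hreg.pow _
  apply hreg'.left
  calc g ^ (t + n + n') * (f ^ t * (f ^ n' * a))
      = (f * g) ^ t * ((f * g) ^ n' * (a * g ^ n)) := by ring
    _ = (f * g) ^ t * ((f * g) ^ n * (a' * g ^ n')) := hc
    _ = g ^ (t + n + n') * (f ^ t * (f ^ n * a')) := by ring

end General

variable (n : ℕ) (R : Type u) [CommRing R]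

lemma X_mem (i : Fin (n + 1)) :
    (X i : MvPolynomial (Fin (n + 1)) R) ∈ CohB1.polyGrading n R 1 :=
  isHomogeneous_X R i

/-- The two localization maps into `A_(T_i T_k)`. -/
noncomputable abbrev ρ (i k : Fin (n + 1)) :
    Away (CohB1.polyGrading n R) (X i : MvPolynomial (Fin (n + 1)) R) →+*
      Away (CohB1.polyGrading n R) (X i * X k : MvPolynomial (Fin (n + 1)) R) :=
  awayMap (CohB1.polyGrading n R) (X_mem n R k) rfl

noncomputable abbrev ρ' (i k : Fin (n + 1)) :
    Away (CohB1.polyGrading n R) (X k : MvPolynomial (Fin (n + 1)) R) →+*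
      Away (CohB1.polyGrading n R) (X i * X k : MvPolynomial (Fin (n + 1)) R) :=
  awayMap (CohB1.polyGrading n R) (X_mem n R i) (mul_comm _ _)

/-- The constant `r`, as an element of the degree-zero part. -/
noncomputable def constZero (r : R) : CohB1.polyGrading n R 0 :=
  ⟨C r, isHomogeneous_C _ r⟩

variable {n R}

/-- Key coefficient computation. -/
lemma eq_monomial_of_mul_X_pow_eq {j : Fin (n + 1)} (hj : j ≠ 0) {k l : ℕ}
    {a b : MvPolynomial (Fin (n + 1)) R} (ha : a.IsHomogeneous k)
    (h : a * X j ^ l = b * X 0 ^ k) (m : Fin (n + 1) →₀ ℕ) (hm : coeff m a ≠ 0) : m j = 0 := by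
  classical
  by_contra hmj
  have hdeg : Finsupp.weight (1 : Fin (n + 1) → ℕ) m = k := ha hm
  -- coefficient at `m + l e_j`
  have h1 : coeff (m + Finsupp.single j l) (a * X j ^ l) = coeff m a := by
    rw [X_pow_eq_monomial, coeff_mul_monomial, mul_one]
  have h2 : coeff (m + Finsupp.single j l) (b * X 0 ^ k) = 0 := by
    rw [X_pow_eq_monomial, coeff_mul_monomial', if_neg, ]
    intro hle
    have h0 := hle 0
    rw [Finsupp.single_eq_same, Finsupp.add_apply, Finsupp.single_eq_of_ne (Ne.symm hj),
      add_zero] at h0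
    -- weight m ≥ m 0 + m j
    have hw : m 0 + m j ≤ Finsupp.weight (1 : Fin (n + 1) → ℕ) m := by
      rw [Finsupp.weight_apply]
      have hsub : ({0, j} : Finset (Fin (n + 1))) ⊆ m.support := by
        intro x hx
        rw [Finset.mem_insert, Finset.mem_singleton] at hx
        rw [Finsupp.mem_support_iff]
        rcases hx with rfl | rfl
        · intro h00
          rw [h00] at h0
          have : k = 0 := by omega
          subst this
          have : m j ≤ Finsupp.weight (1 : Fin (n + 1) → ℕ) m := by
            rw [Finsupp.weight_apply]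
            have := Finset.single_le_sum (f := fun i => m i • (1 : Fin (n + 1) → ℕ) i)
              (fun i _ => Nat.zero_le _) (Finsupp.mem_support_iff.2 hmj)
            simpa [Finsupp.sum] using this
          omega
        · exact hmj
      have := Finset.sum_le_sum_of_subset (f := fun i => m i • (1 : Fin (n + 1) → ℕ) i) hsub
      rw [Finset.sum_pair (Ne.symm hj)] at this
      simpa [Finsupp.sum] using this
    have : 0 < m j := Nat.pos_of_ne_zero hmj
    omega
  rw [h] at h1
  exact hm (h1 ▸ h2)

variable (n R) in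
/-- **Algebraic core of `Γ(P^n_R, O) = R`**: a family of elements of the `R[T]_(T_i)` agreeing in the
`R[T]_(T_i T_k)` comes from a unique constant. -/
theorem exists_const_of_compat
    (s : ∀ i : Fin (n + 1), Away (CohB1.polyGrading n R) (X i : MvPolynomial (Fin (n + 1)) R))
    (hs : ∀ i k, ρ n R i k (s i) = ρ' n R i k (s k)) :
    ∃ r : R, ∀ i, s i = fromZeroRingHom (CohB1.polyGrading n R) _ (constZero n R r) := by
  classical
  obtain ⟨k, a, ha, h0⟩ := Away.mk_surjective (CohB1.polyGrading n R) (X_mem n R 0) (s 0)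
  have ha' : a.IsHomogeneous k := by
    have : a ∈ CohB1.polyGrading n R k := by simpa using ha
    exact this
  have hsupp : ∀ m, coeff m a ≠ 0 → ∀ j : Fin (n + 1), j ≠ 0 → m j = 0 := by
    intro m hm j hj
    obtain ⟨l, b, hb, hj'⟩ := Away.mk_surjective (CohB1.polyGrading n R) (X_mem n R j) (s j)
    have hc := hs 0 j
    rw [← h0, ← hj', awayMap_mk, awayMap_mk] at hc
    have h1 := congrArg HomogeneousLocalization.val hc
    rw [Away.val_mk, Away.val_mk, Localization.mk_eq_mk_iff, Localization.r_iff_exists] at h1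
    obtain ⟨⟨c, t, rfl⟩, hc'⟩ := h1
    simp only at hc'
    have hkey : a * X j ^ l = b * X 0 ^ k := by
      have hreg : IsRegular ((X 0 * X j : MvPolynomial (Fin (n + 1)) R) ^ t * X 0 ^ l * X j ^ k) :=
        (((isRegular_X.mul isRegular_X).pow t).mul (isRegular_X_pow l)).mul (isRegular_X_pow k)
      apply hreg.left
      calc (X 0 * X j : MvPolynomial (Fin (n + 1)) R) ^ t * X 0 ^ l * X j ^ k * (a * X j ^ l)
          = (X 0 * X j) ^ t * ((X 0 * X j) ^ l * (a * X j ^ k)) := by ring
        _ = (X 0 * X j) ^ t * ((X 0 * X j) ^ k * (b * X 0 ^ l)) := hc'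
        _ = (X 0 * X j) ^ t * X 0 ^ l * X j ^ k * (b * X 0 ^ k) := by ring
    exact eq_monomial_of_mul_X_pow_eq hj ha' hkey m hm
  have ha_eq : a = monomial (Finsupp.single 0 k) (coeff (Finsupp.single 0 k) a) := by
    ext m
    rw [coeff_monomial]
    split_ifs with h
    · rw [h]
    · by_contra hne
      apply h
      have hw : Finsupp.weight (1 : Fin (n + 1) → ℕ) m = k := ha' hne
      ext j
      by_cases hj : j = 0
      · subst hj
        rw [Finsupp.single_eq_same]
        have hm_eq : m = Finsupp.single 0 (m 0) := by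
          ext i
          by_cases hi : i = 0
          · subst hi; rw [Finsupp.single_eq_same]
          · rw [Finsupp.single_eq_of_ne hi, hsupp m hne i hi]
        rw [hm_eq, Finsupp.weight_single] at hw
        simpa using hw.symm
      · rw [Finsupp.single_eq_of_ne hj, hsupp m hne j hj]
  set r := coeff (Finsupp.single 0 k) a with hr
  have h00 : s 0 = fromZeroRingHom (CohB1.polyGrading n R) _ (constZero n R r) := by
    rw [← h0]
    apply HomogeneousLocalization.val_injective
    rw [Away.val_mk]
    change _ = Localization.mk (C r) 1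
    rw [Localization.mk_eq_mk_iff, Localization.r_iff_exists]
    refine ⟨1, ?_⟩
    simp only [OneMemClass.coe_one, one_mul]
    rw [ha_eq, ← C_mul_X_pow_eq_monomial, mul_comm]
  refine ⟨r, fun i => ?_⟩
  have hc := hs i 0
  rw [h00] at hc
  have h1 : ρ' n R i 0 (fromZeroRingHom (CohB1.polyGrading n R) _ (constZero n R r)) =
      fromZeroRingHom (CohB1.polyGrading n R) _ (constZero n R r) := awayMap_fromZeroRingHom ..
  have h2 : ρ n R i 0 (fromZeroRingHom (CohB1.polyGrading n R) _ (constZero n R r)) =
      fromZeroRingHom (CohB1.polyGrading n R) _ (constZero n R r) := awayMap_fromZeroRingHom ..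
  rw [h1, ← h2] at hc
  exact awayMap_injective (CohB1.polyGrading n R) (X_mem n R i) (X_mem n R 0) rfl isRegular_X hc

/-- `𝒜 0 → R[T]_(T_0)` is injective. -/
lemma fromZeroRingHom_injective :
    Function.Injective (fromZeroRingHom (CohB1.polyGrading n R)
      (Submonoid.powers (X 0 : MvPolynomial (Fin (n + 1)) R))) := by
  intro a b hab
  have h1 := congrArg HomogeneousLocalization.val hab
  change Localization.mk a.1 1 = Localization.mk b.1 1 at h1
  rw [Localization.mk_eq_mk_iff, Localization.r_iff_exists] at h1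
  obtain ⟨⟨c, t, rfl⟩, hc⟩ := h1
  simp only [OneMemClass.coe_one, one_mul] at hc
  exact Subtype.ext ((isRegular_X_pow t).left hc)

/-- Degree-zero homogeneous polynomials are constants. -/
lemma algebraMap_zero_bijective :
    Function.Bijective (algebraMap R (CohB1.polyGrading n R 0)) := by
  constructor
  · intro a b hab
    have := congrArg Subtype.val hab
    exact C_injective _ _ this
  · rintro ⟨p, hp⟩
    have hp' : p.IsHomogeneous 0 := hp
    refine ⟨coeff 0 p, Subtype.ext ?_⟩
    change C (coeff 0 p) = p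
    have := hp'.totalDegree_le
    exact ((totalDegree_eq_zero_iff_eq_C).1 (Nat.le_zero.1 this)).symm

end Groth.Agent.Lib.Helper1.ProjSpaceAlg
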