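/-
helper1: the pinned comparison maps `ε_V : H^p(f⁻¹V, F|) → Γ(V, R^p f_* F)` (structure `CohCmp.SectCmp`)
are locally surjective.  Formal δ-functor induction: embed `F` into an injective, the connecting
morphism `R^p f_* Q ⟶ R^{p+1} f_* F` is an epimorphism of `O_Y`-modules, hence locally surjective.
-/
import Groth.Prelude.Def_CohCmp
import Groth.Agent.Lib.QCoh.Extension

set_option autoImplicit false
universe u

namespace Groth.Agent.Lib.Helper1.SectCmpSurj

open CohCmp AlgebraicGeometry CategoryTheory Scheme.Modules Opposite Limits TopologicalSpace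
open Groth.Agent.Lib.QCoh

section Inj

variable {X : Scheme.{u}} [HasInjectiveResolutions X.Modules]

/-- an injective module containing `F` -/
noncomputable def injObj (F : X.Modules) : X.Modules := (injectiveResolution F).cocomplex.X 0

instance (F : X.Modules) : Injective (injObj F) := (injectiveResolution F).injective 0

/-- the embedding of `F` into `injObj F` -/
noncomputable def injι (F : X.Modules) : F ⟶ injObj F :=
  (HomologicalComplex.singleObjXSelf (ComplexShape.up ℕ) 0 F).inv ≫ (injectiveResolution F).ι.f 0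

instance (F : X.Modules) : Mono (injι F) := by
  unfold injι
  have h2 := mono_of_isLimit_fork (injectiveResolution F).isLimitKernelFork
  exact @mono_comp _ _ _ _ _ _ inferInstance _ h2

/-- the short exact sequence `0 → F → I → Q → 0` with `I` injective -/
noncomputable def injSES (F : X.Modules) : ShortComplex X.Modules :=
  ShortComplex.mk (injι F) (cokernel.π (injι F)) (cokernel.condition _)

lemma injSES_shortExact (F : X.Modules) : (injSES F).ShortExact where
  exact := ShortComplex.exact_cokernel _
  mono_f := inferInstanceAs (Mono (injι F))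
  epi_g := inferInstanceAs (Epi (cokernel.π (injι F)))

instance (F : X.Modules) : Injective (injSES F).X₂ := inferInstanceAs (Injective (injObj F))

end Inj

section LocalLift

variable {Y : Scheme.{u}}

/-- sections of the target of an epimorphism of `O_Y`-modules lift locally -/
lemma exists_local_lift {M N : Y.Modules} (φ : M ⟶ N) [Epi φ] (V : Y.Opens) (t : Γ(N, V))
    (y : Y) (hy : y ∈ V) :
    ∃ (W : Y.Opens) (hWV : W ≤ V), y ∈ W ∧ ∃ s : Γ(M, W),
      φ.app W s = N.presheaf.map (homOfLE hWV).op t := by
  have h1 : Epi ((toAbFunctor Y).map φ) := inferInstance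
  have hls := (Sheaf.isLocallySurjective_iff_epi' AddCommGrpCat.{u} ((toAbFunctor Y).map φ)).2 h1
  have := hls.imageSieve_mem t
  obtain ⟨W, i, ⟨s, hs⟩, hyW⟩ := this y hy
  exact ⟨W, i.le, hyW, s, hs⟩

end LocalLift

section Main

variable {X Y : Scheme.{u}} (f : X ⟶ Y) [HasInjectiveResolutions X.Modules]

lemma epi_δ (Δ : RDer.DerivedLES (pushforward f)) (F : X.Modules) (p : ℕ) :
    Epi (Δ.δ (injSES F) (injSES_shortExact F) p (p + 1) rfl) := by
  have h := Δ.exact₁ (injSES F) (injSES_shortExact F) p (p + 1) rfl
  have hz : IsZero (((pushforward f).rightDerived (p + 1)).obj (injSES F).X₂) :=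
    Functor.isZero_rightDerived_obj_injective_succ _ p _
  exact h.epi_f (hz.eq_of_tgt _ _)

omit [HasInjectiveResolutions X.Modules] in
lemma shortExact_toAbOn {S : ShortComplex X.Modules} (hS : S.ShortExact) (U : X.Opens) :
    (S.map (toAbOn X U)).ShortExact := by
  have h1 : (S.map (restrictFunctor U.ι)).ShortExact := shortExact_map_restrictFunctor U.ι hS
  have h2 : ((S.map (restrictFunctor U.ι)).map (toAbFunctor (U : Scheme.{u}))).ShortExact :=
    h1.map_of_exact _
  exact h2

theorem locally_surjective {Δ : RDer.DerivedLES (pushforward f)} (E : CohCmp.SectCmp f Δ) (p : ℕ) :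
    ∀ (F : X.Modules) (V : Y.Opens) (t : ((Coh.Rpush f p).obj F).presheaf.obj (op V)) (y : Y)
      (_ : y ∈ V), ∃ (W : Y.Opens) (hWV : W ≤ V), y ∈ W ∧
      ∃ x : Coh.HHon X F (f ⁻¹ᵁ W) p,
        E.ε W F p x = ((Coh.Rpush f p).obj F).presheaf.map (homOfLE hWV).op t := by
  induction p with
  | zero =>
    intro F V t y hy
    let s : F.presheaf.obj (op (f ⁻¹ᵁ V)) :=
      (inv ((pushforward f).toRightDerivedZero.app F)).app V t
    refine ⟨V, le_rfl, hy, CohPull.sectH0 F (f ⁻¹ᵁ V) s, ?_⟩
    refine (E.zero V F s).trans ?_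
    have h1 : ((pushforward f).toRightDerivedZero.app F).app V
        ((inv ((pushforward f).toRightDerivedZero.app F)).app V t) = t := by
      rw [← ConcreteCategory.comp_apply, ← Hom.comp_app, IsIso.inv_hom_id, Hom.id_app]
      rfl
    have h2 : (homOfLE (le_refl V)).op = 𝟙 (op V) := Subsingleton.elim _ _
    rw [h2, CategoryTheory.Functor.map_id]
    exact h1
  | succ p ih =>
    intro F V t y hy
    have hS := injSES_shortExact F
    haveI := epi_δ f Δ F p
    obtain ⟨W, hWV, hyW, t', ht'⟩ := exists_local_lift (Δ.δ (injSES F) hS p (p + 1) rfl) V t y hy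
    obtain ⟨W', hW'W, hyW', x', hx'⟩ := ih (injSES F).X₃ W t' y hyW
    have hA := shortExact_toAbOn hS (f ⁻¹ᵁ W')
    refine ⟨W', hW'W.trans hWV, hyW', extδ hA p x', ?_⟩
    refine (E.delta W' (injSES F) hS hA p x').trans ?_
    refine (congrArg ((Δ.δ (injSES F) hS p (p + 1) rfl).app W') hx').trans ?_
    have hnat := congr($((Δ.δ (injSES F) hS p (p + 1) rfl).mapPresheaf.naturality
      (homOfLE hW'W).op) t')
    refine hnat.trans ?_
    change (((Coh.Rpush f (p + 1)).obj F).presheaf.map (homOfLE hW'W).op)
      ((Δ.δ (injSES F) hS p (p + 1) rfl).app W t') = _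
    rw [ht']
    change (((Coh.Rpush f (p + 1)).obj F).presheaf.map (homOfLE hWV).op ≫
      ((Coh.Rpush f (p + 1)).obj F).presheaf.map (homOfLE hW'W).op) t = _
    rw [← Functor.map_comp]
    rfl

end Main

end Groth.Agent.Lib.Helper1.SectCmpSurj
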